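import Cfsg.Agent.Lib.RI.Gen2
import Cfsg.Agent.S2302
import Cfsg.Agent.Lib.Sz.Trace
import Cfsg.Agent.Lib.Sz.Local

/-!
Sets of `p`-transpositions for a prime `p ≥ 5`: for commuting members `a ≠ c` with a common
non-commuting member `f`, the members `f` and `f ^ (a c)` commute, and `a`, `c` commute with
the same members.
-/

set_option autoImplicit false

namespace Cfsg.Lib.PTr

open Subgroup Cfsg.Lib.Inv Cfsg.Lib.RI
open QuotientGroup (mk')
open scoped MatrixGroups

variable {G : Type*} [Group G] {D : Set G} {p : ℕ} {a b c d e f g s t x y : G}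

/-- An invariant set of involutions whose products have order `1`, `2` or `p`. -/
structure PT (p : ℕ) (D : Set G) : Prop where
  pr : p.Prime
  five : 5 ≤ p
  sq : ∀ d ∈ D, d * d = 1
  ne : ∀ d ∈ D, d ≠ 1
  conj : ∀ d ∈ D, ∀ g, cj g d ∈ D
  pair : ∀ a ∈ D, ∀ b ∈ D, Commute a b ∨ (a * b) ^ p = 1

theorem not_comm_map {G' : Type*} [Group G'] (φ : G →* G') (hk : ∀ x, φ x = 1 → Two x)
    (ha : a * a = 1) (hb : b * b = 1) (h : Od a b) : ¬ Commute (φ a) (φ b) := fun hc => by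
  obtain ⟨k, hk⟩ := hk (a * b * (a * b)) (by
    rw [map_mul, map_mul]
    exact mul_sq_of_comm (by rw [← map_mul, ha, map_one]) (by rw [← map_mul, hb, map_one]) hc)
  exact h.not_two hb ⟨k + 1, by rw [pow_succ', pow_mul, _root_.sq]; exact hk⟩

namespace PT

variable (h : PT p D)
include h

theorem odd : Odd p := h.pr.odd_of_ne_two (by have := h.five; omega)

theorem od (ha : a ∈ D) (hb : b ∈ D) (n : ¬ Commute a b) : Od a b :=
  ⟨n, h.odd.of_dvd_nat (orderOf_dvd_of_pow_eq_one ((h.pair a ha b hb).resolve_left n))⟩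

theorem rt : Rt D :=
  ⟨fun d hd => orderOf_eq_prime (by rw [_root_.sq]; exact h.sq d hd) (h.ne d hd),
    fun d hd e _ => h.conj d hd e, fun a ha b hb => by
      by_cases n : Commute a b
      · exact .inl n
      · exact .inr (.inl (h.od ha hb n).2)⟩

theorem deg : Deg D := fun a ha b hb v => v.not_od (h.sq a ha) (h.sq b hb) (h.od ha hb v.1)

theorem sub (Y : Subgroup G) : PT p (Y.subtype ⁻¹' D) :=
  ⟨h.pr, h.five, fun _ hd => Subtype.ext (h.sq _ hd), fun _ hd e => h.ne _ hd (congrArg _ e),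
    fun _ hd g => h.conj _ hd g, fun _ ha _ hb => (h.pair _ ha _ hb).imp
      (fun c => Subtype.ext c.eq) fun c => Subtype.ext c⟩

theorem map {G' : Type*} [Group G'] (φ : G →* G') (hφ : Function.Surjective φ) :
    PT p (φ '' D \ {1}) := by
  refine ⟨h.pr, h.five, ?_, fun d hd => hd.2, ?_, ?_⟩
  · rintro _ ⟨⟨d, hd, rfl⟩, -⟩
    rw [← map_mul, h.sq d hd, map_one]
  · rintro _ ⟨⟨d, hd, rfl⟩, n⟩ g
    obtain ⟨g, rfl⟩ := hφ g
    exact ⟨⟨_, h.conj d hd g, map_cj φ g d⟩, fun e => n (cj_eq_one.1 e)⟩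
  · rintro _ ⟨⟨a, ha, rfl⟩, -⟩ _ ⟨⟨b, hb, rfl⟩, -⟩
    exact (h.pair a ha b hb).imp (fun c => c.map φ) fun c => by
      rw [← map_mul, ← map_pow, c, map_one]

/-- A member commuting with `a * b` commutes with `a`. -/
theorem comm_left (hx : x ∈ D) (ha : a ∈ D) (hb : b ∈ D) (hab : Commute a b) (hne : a ≠ b)
    (c : Commute x (a * b)) : Commute x a := by
  by_contra n
  exact h.rt.l0' hx ha hb hab hne c (h.od hx ha n)

theorem comm_right (hx : x ∈ D) (ha : a ∈ D) (hb : b ∈ D) (hab : Commute a b) (hne : a ≠ b)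
    (c : Commute x (a * b)) : Commute x b :=
  h.comm_left hx hb ha hab.symm hne.symm (hab.eq ▸ c)

theorem eq_one {q : ℕ} (hq : q.Prime) (hne : q ≠ p) (h1 : x ^ q = 1) (h2 : x ^ p = 1) : x = 1 := by
  have := Nat.dvd_gcd (orderOf_dvd_of_pow_eq_one h1) (orderOf_dvd_of_pow_eq_one h2)
  rw [((Nat.coprime_primes hq h.pr).2 hne).gcd_eq_one, Nat.dvd_one] at this
  exact orderOf_eq_one_iff.1 this

/-- If all involutions are conjugate, an element inverted by an involution has order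
dividing `2` or `p`. -/
theorem of_inv (hd : d ∈ D) (one : ∀ x y : G, x * x = 1 → x ≠ 1 → y * y = 1 → y ≠ 1 → IsConj x y)
    (t2 : t * t = 1) (t1 : t ≠ 1) (i : t * g * t⁻¹ = g⁻¹) : g * g = 1 ∨ g ^ p = 1 := by
  have m : ∀ x : G, x * x = 1 → x ≠ 1 → x ∈ D := fun x h1 h2 => by
    obtain ⟨k, rfl⟩ := isConj_iff.1 (one d x (h.sq d hd) (h.ne d hd) h1 h2)
    exact h.conj d hd k
  have ti : t⁻¹ = t := inv_eq_of_mul_eq_one_left t2
  have s2 : t * g * (t * g) = 1 := by
    rw [← mul_assoc, show t * g * t = g⁻¹ by rw [← i, ti], inv_mul_cancel]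
  by_cases n : t * g = 1
  · left
    rw [← eq_of_mul_eq_one' (x := t) (y := g) (by
      rw [eq_inv_of_mul_eq_one_right n, ti]; exact t2) n]
    exact t2
  rcases h.pair t (m t t2 t1) _ (m _ s2 n) with c | c
  · left
    have := mul_sq_of_comm t2 s2 c
    rwa [cancel2 t2] at this
  · right
    rwa [cancel2 t2] at c

end PT

theorem sl_false {F : Type*} [Field F] [Fintype F] [CharP F 2] {D : Set SL(2, F)} {d : SL(2, F)}
    (h : PT p D) (hd : d ∈ D) : False := by
  have two : (2 : F) = 0 := CharTwo.two_eq_zero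
  obtain ⟨t, ht⟩ : ∃ t : SL(2, F), t.1 = !![1, 1; 0, 1] := ⟨⟨!![1, 1; 0, 1], by simp⟩, rfl⟩
  obtain ⟨g, hg⟩ : ∃ g : SL(2, F), g.1 = !![0, 1; 1, 1] :=
    ⟨⟨!![0, 1; 1, 1], by simp [CharTwo.neg_eq]⟩, rfl⟩
  have ne : ∀ {A B : SL(2, F)} (i j), A.1 i j ≠ B.1 i j → A ≠ B := fun i j n e => n (e ▸ rfl)
  have t2 : t * t = 1 := Subtype.ext (by
    rw [Matrix.SpecialLinearGroup.coe_mul, ht, Matrix.SpecialLinearGroup.coe_one,
      Matrix.one_fin_two]
    simp [one_add_one_eq_two, two])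
  have g3 : g * g * g = 1 := Subtype.ext (by
    simp only [Matrix.SpecialLinearGroup.coe_mul, hg, Matrix.SpecialLinearGroup.coe_one,
      Matrix.one_fin_two]
    simp [one_add_one_eq_two, two])
  have tg : t * g * (t * g) = 1 := Subtype.ext (by
    simp only [Matrix.SpecialLinearGroup.coe_mul, hg, ht, Matrix.SpecialLinearGroup.coe_one,
      Matrix.one_fin_two]
    simp [one_add_one_eq_two, two])
  have g1 : g ≠ 1 := ne 0 0 (by simp [hg])
  have := h.of_inv hd (fun x y h1 h2 h3 h4 => (Cfsg.Agent.S2302.result x y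
    (orderOf_eq_prime (by rw [_root_.sq]; exact h1) h2)
    (orderOf_eq_prime (by rw [_root_.sq]; exact h3) h4)).1) t2 (ne 0 1 (by simp [ht])) (g := g) (by
      rw [inv_eq_of_mul_eq_one_left t2, eq_inv_iff_mul_eq_one, mul_assoc]; exact tg)
  rcases this with e | e
  · rw [e, one_mul] at g3
    exact g1 g3
  · exact g1 (h.eq_one Nat.prime_three (by have := h.five; omega)
      (by rw [pow_succ, _root_.sq]; exact g3) e)

theorem center_sl {F : Type*} [Field F] [CharP F 2] : center SL(2, F) = ⊥ := by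
  rw [eq_bot_iff]
  intro A hA
  obtain ⟨r, h1, h2⟩ := Matrix.SpecialLinearGroup.mem_center_iff.1 hA
  rw [Fintype.card_fin, sq_eq_one_iff, CharTwo.neg_eq, or_self] at h1
  rw [h1, map_one] at h2
  exact Subtype.ext h2.symm

theorem sz_false {F : Type*} [Field F] [Finite F] (M : Sz.Model F G) {m : ℕ} (hm : 1 ≤ m)
    (hq : Nat.card F = 2 ^ (2 * m + 1)) (h : PT p D) (hd : d ∈ D) : False := by
  haveI := M.finite
  have key : ∀ q : ℕ, q.Prime → q ≠ 2 → q ∣ Nat.card G → q = p := fun q h1 h2 h3 => by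
    haveI := Fact.mk h1
    obtain ⟨g, hg⟩ := exists_prime_orderOf_dvd_card' q h3
    have n : ∀ k, g ^ 2 ^ k ≠ 1 := fun k e =>
      h2 ((Nat.prime_dvd_prime_iff_eq h1 Nat.prime_two).1
        (h1.dvd_of_dvd_pow (hg ▸ orderOf_dvd_of_pow_eq_one e)))
    obtain ⟨t, t2, t1, i⟩ := M.exists_inverting hm hq (g := g) (n 2)
    rcases h.of_inv hd (fun x y h1 h2 h3 h4 => M.isConj_of_sq h1 h2 h3 h4) t2 t1 i with e | e
    · exact absurd (by rw [pow_one, _root_.sq]; exact e) (n 1)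
    · exact (Nat.prime_dvd_prime_iff_eq h1 h.pr).1 (hg ▸ orderOf_dvd_of_pow_eq_one e)
  have h8 : 2 ^ 3 ≤ Nat.card F := hq ▸ Nat.pow_le_pow_right two_pos (by omega)
  obtain ⟨q, q1, q2⟩ := Nat.exists_prime_and_dvd (n := Nat.card F - 1) (by omega)
  obtain ⟨r, r1, r2⟩ := Nat.exists_prime_and_dvd (n := Nat.card F ^ 2 + 1) (by
    have : 0 < Nat.card F ^ 2 := by positivity
    omega)
  have e1 := key q q1 (fun e => (Nat.not_even_iff_odd.2 M.odd_card_sub_one)
    (even_iff_two_dvd.2 (e ▸ q2))) (M.card_G ▸ (q2.mul_left _).mul_right _)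
  have e2 := key r r1 (fun e => (Nat.not_even_iff_odd.2 M.odd_sq_add_one)
    (even_iff_two_dvd.2 (e ▸ r2))) (M.card_G ▸ r2.mul_left _)
  exact h.pr.one_lt.ne' (Nat.eq_one_of_dvd_coprimes M.coprime_tori (e1 ▸ q2) (e2 ▸ r2))

theorem dih_refl {n : ℕ} {x f : DihedralGroup n} (x2 : x * x = 1) (h : ¬ Commute f x) :
    ∃ i, x = .sr i := by
  rcases x with i | i
  · refine absurd ?_ h
    rw [DihedralGroup.r_mul_r, DihedralGroup.one_def, DihedralGroup.r.injEq] at x2
    rcases f with j | j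
    · show _ = _
      rw [DihedralGroup.r_mul_r, DihedralGroup.r_mul_r, add_comm]
    · show _ = _
      rw [DihedralGroup.sr_mul_r, DihedralGroup.r_mul_sr, sub_eq_add_neg,
        neg_eq_of_add_eq_zero_left x2]
  · exact ⟨i, rfl⟩

/-- A member whose product with another member lies in the set commutes with every member. -/
theorem PT.four [Finite G] (h : PT p D) (ha : a ∈ D) (hc : c ∈ D) (hm : a * c ∈ D) (hf : f ∈ D) :
    Commute f a := by
  by_contra n
  have ac : Commute a c := comm_of_mul_sq (h.sq a ha) (h.sq c hc) (h.sq _ hm)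
  have oa := h.od hf ha n
  have nc := h.rt.l0'' hf hc ac hm oa
  have nm : ¬ Commute f (a * c) := h.rt.l0'' hf hm ((Commute.refl a).mul_right ac)
    (by rwa [cancel2 (h.sq a ha)]) oa
  have ec : c ∈ Es D a := ⟨hc, fun x hx => ⟨fun k => by
    by_contra k'
    exact h.rt.l0'' hx ha ac.symm (ac.eq ▸ hm) (h.od hx hc k') k, fun k => by
    by_contra k'
    exact h.rt.l0'' hx hc ac hm (h.od hx ha k') k⟩⟩
  have gen := h.rt.gen_main h.deg ha hf oa.symm
  set X := closure (insert f (Es D a))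
  have ma : a ∈ X := subset_closure (.inr (self_es ha))
  have mc : c ∈ X := subset_closure (.inr ec)
  have mf : f ∈ X := subset_closure (.inl rfl)
  have key : ∀ {L : Type} [Group L], (X ⧸ pCore 2 X ≃* L) → ∃ D' : Set L, PT p D' ∧
      ∃ a ∈ D', ∃ c ∈ D', ∃ f, ¬ Commute f a ∧ ¬ Commute f c ∧ ¬ Commute f (a * c) ∧
        a * c * (a * c) = 1 := fun {L} _ ψ => by
    let φ : X →* L := ψ.toMonoidHom.comp (mk' _)
    have hk : ∀ x, φ x = 1 → Two x := fun x e =>
      two_of_mem (Core.pCore_isPGroup 2 X) ((QuotientGroup.eq_one_iff x).1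
        (ψ.map_eq_one_iff.1 e))
    have h' := h.sub X
    have nm : ∀ x : X, x.1 ∈ D → ¬ Commute f x.1 → ¬ Commute (φ ⟨f, mf⟩) (φ x) := fun x hx k =>
      not_comm_map φ hk (h'.sq _ hf) (h'.sq _ hx)
        (h'.od hf hx fun e => k (congrArg Subtype.val e.eq))
    have n1 := nm ⟨a, ma⟩ ha n
    have n2 := nm ⟨c, mc⟩ hc nc
    have n3 := nm ⟨_, mul_mem ma mc⟩ hm ‹_›
    refine ⟨_, h'.map φ (ψ.surjective.comp (QuotientGroup.mk'_surjective _)), φ ⟨a, ma⟩,
      ⟨⟨_, ha, rfl⟩, fun e => n1 (e ▸ Commute.one_right _)⟩, φ ⟨c, mc⟩,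
      ⟨⟨_, hc, rfl⟩, fun e => n2 (e ▸ Commute.one_right _)⟩, φ ⟨f, mf⟩, n1, n2,
      by rw [← map_mul]; exact n3, ?_⟩
    rw [← map_mul, ← map_mul, ← map_one φ]
    exact congrArg φ (Subtype.ext (h.sq _ hm))
  rcases gen with ⟨F, _, _, _, -, ⟨ψ⟩⟩ | ⟨F, _, _, m, hm1, hq, ⟨ψ⟩⟩ | ⟨k, ⟨ψ⟩⟩
  · obtain ⟨D', h', a, ha, -⟩ := key (ψ.trans ((QuotientGroup.quotientMulEquivOfEq
      center_sl).trans QuotientGroup.quotientBot))
    exact sl_false h' ha
  · obtain ⟨D', h', a, ha, -⟩ := key ψ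
    exact sz_false (Sz.lieModel hq) hm1 (Nat.card_eq_fintype_card.trans hq) h' ha
  · obtain ⟨D', h', a, ha, c, hc, f, n1, n2, n3, e⟩ := key ψ
    obtain ⟨i, rfl⟩ := dih_refl (h'.sq a ha) n1
    obtain ⟨j, rfl⟩ := dih_refl (h'.sq c hc) n2
    obtain ⟨l, hl⟩ := dih_refl e n3
    rw [DihedralGroup.sr_mul_sr] at hl
    cases hl

/-- `f` commutes with its conjugate under `a c`. -/
theorem PT.comm_cj [Finite G] (h : PT p D) (ha : a ∈ D) (hc : c ∈ D) (hf : f ∈ D)
    (ac : Commute a c) (hne : a ≠ c) (n1 : ¬ Commute f a) (n2 : ¬ Commute f c) :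
    Commute f (cj (a * c) f) := by
  by_contra n
  have t2 := mul_sq_of_comm (h.sq a ha) (h.sq c hc) ac
  obtain ⟨g, -, c1, c2, -⟩ := dih (h.sq f hf) t2 (h.od hf (h.conj f hf _) n).2
  have he := h.conj f hf g
  generalize cj g f = e at c1 c2 he
  have ea := h.comm_left he ha hc ac hne c1
  have ec := h.comm_right he ha hc ac hne c1
  have n3 : ¬ Commute f e := fun k => n1 (h.comm_left hf ha hc ac hne (by
    have := k.mul_right c2
    rwa [cancel2 (h.sq e he)] at this))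
  have s2 := mul_sq_of_comm (h.sq e he) t2 c1
  obtain ⟨s, hs⟩ : ∃ s, s = e * (a * c) := ⟨_, rfl⟩
  rw [← hs] at c2 s2
  let H := centralizer ({s} : Set G)
  have mem : ∀ {x}, Commute x s → x ∈ H := fun k => mem_centralizer_singleton_iff.2 k.eq
  have ma := mem (hs ▸ ea.symm.mul_right ((Commute.refl a).mul_right ac))
  have mc := mem (hs ▸ ec.symm.mul_right (ac.symm.mul_right (Commute.refl c)))
  have me := mem (hs ▸ (Commute.refl e).mul_right c1)
  have mf := mem c2
  let s' : H := ⟨s, mem (Commute.refl s)⟩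
  haveI : (zpowers s').Normal := ⟨fun y hy x => by
    obtain ⟨k, rfl⟩ := mem_zpowers_iff.1 hy
    have : Commute x s' := Subtype.ext (mem_centralizer_singleton_iff.1 x.2)
    rw [(this.zpow_right k).eq, mul_inv_cancel_right]
    exact hy⟩
  let φ := mk' (zpowers s')
  have hk : ∀ x, φ x = 1 → Two x := fun x e =>
    two_of_mem (isPGroup_zpowers_of_mul_self (Subtype.ext s2)) ((QuotientGroup.eq_one_iff x).1 e)
  have h' := h.sub H
  have nm : ∀ x : H, x.1 ∈ D → ¬ Commute f x.1 → ¬ Commute (φ ⟨f, mf⟩) (φ x) := fun x hx k =>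
    not_comm_map φ hk (h'.sq _ hf) (h'.sq _ hx)
      (h'.od hf hx fun e => k (congrArg Subtype.val e.eq))
  have m1 := nm ⟨a, ma⟩ ha n1
  have m2 := nm ⟨c, mc⟩ hc n2
  have m3 := nm ⟨e, me⟩ he n3
  have e1 : φ ⟨a, ma⟩ * φ ⟨c, mc⟩ = φ ⟨e, me⟩ := by
    have : φ s' = 1 := (QuotientGroup.eq_one_iff _).2 (mem_zpowers s')
    rw [← map_mul, ← mul_one (φ ⟨e, me⟩), ← this, ← map_mul]
    exact congrArg φ (Subtype.ext (by
      show a * c = e * s
      rw [hs, cancel2 (h.sq e he)]))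
  exact m1 ((h'.map φ (QuotientGroup.mk'_surjective _)).four (c := φ ⟨c, mc⟩)
    ⟨⟨_, ha, rfl⟩, fun e => m1 (e ▸ Commute.one_right _)⟩
    ⟨⟨_, hc, rfl⟩, fun e => m2 (e ▸ Commute.one_right _)⟩
    (by rw [e1]; exact ⟨⟨_, he, rfl⟩, fun e => m3 (e ▸ Commute.one_right _)⟩)
    ⟨⟨_, hf, rfl⟩, fun e => m1 (e ▸ Commute.one_left _)⟩)

/-- Commuting members with a common non-commuting member commute with the same members. -/
theorem PT.same [Finite G] (h : PT p D) (hd : d ∈ D) (hb : b ∈ D) (hc : c ∈ D) (ha : a ∈ D)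
    (db : Commute d b) (hne : d ≠ b) (n1 : ¬ Commute c d) (n2 : ¬ Commute c b)
    (ad : Commute a d) : Commute a b := by
  by_contra n
  have d2 := h.sq d hd
  have c2 := h.sq c hc
  have t2 := mul_sq_of_comm d2 (h.sq b hb) db
  have k1 := h.comm_cj hd hb hc db hne n1 n2
  obtain ⟨t, ht⟩ : ∃ t, t = d * b := ⟨_, rfl⟩
  rw [← ht] at k1 t2
  have dt : Commute d t := ht ▸ (Commute.refl d).mul_right db
  obtain ⟨s, hs⟩ : ∃ s, s = cj c t := ⟨_, rfl⟩
  have s2 : s * s = 1 := hs ▸ cj_mul_self t2 c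
  have ts : Commute t s := by
    have := k1.eq
    rw [cj_inv_inv t2] at this
    rw [hs, cj_inv_inv c2]
    show t * (c * t * c) = c * t * c * t
    calc t * (c * t * c) = t * c * t * c := by group
      _ = c * (t * c * t) := this.symm
      _ = _ := by group
  have hy := h.conj d hd s
  have hy' := h.conj b hb s
  have yy : cj s d * cj s b = t := by rw [← cj_mul, ← ht, cj_of_comm ts.symm]
  have yt : Commute (cj s d) (d * b) := by
    rw [← ht, ← yy]
    exact (Commute.refl _).mul_right (Commute_cj s db)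
  have yd := h.comm_left hy hd hb db hne yt
  have yb := h.comm_right hy hd hb db hne yt
  have y1 : cj s d ≠ d := fun e => by
    have := (cj_eq_iff.1 e).symm
    rw [hs, ht, cj_mul] at this
    exact (h.od hd hc fun k => n1 k.symm).not_comm_cj d2 c2 (h.comm_left hd (h.conj d hd c)
      (h.conj b hb c) (Commute_cj c db) (fun e => hne (cj_inj.1 e)) this)
  have y2 : cj s d ≠ b := fun e => by
    have e1 : cj d s = t * s := by
      rw [cj_inv_inv d2, ht, ← e, cj_inv_inv s2, mul_assoc d (s * d * s), mul_assoc (s * d), s2,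
        mul_one, mul_assoc]
    have e2 : cj c s = t := by rw [hs, cj_sq c2]
    have e3 : cj ((c * d) ^ 3) t = t := by
      rw [pow_succ, _root_.sq, ← cj_cj, ← cj_cj, ← cj_cj c d, ← cj_cj c d, ← cj_cj c d,
        cj_of_comm dt, ← hs, e1, cj_mul, e2, ← hs, cj_mul, e1, cj_of_comm dt, mul_assoc,
        ← ts.eq, cancel2 t2, e2]
    have e4 : (c * d) ^ p = 1 := (h.pair c hc d hd).resolve_left n1
    have e5 : c * d ∈ centralizer ({t} : Set G) := by
      have : (c * d) ^ 3 ∈ centralizer ({t} : Set G) :=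
        mem_centralizer_singleton_iff.2 (cj_eq_iff.1 e3).eq
      refine zpowers_le.2 this (mem_zpowers_pow_iff.2 ?_)
      haveI := Fact.mk h.pr
      rw [orderOf_eq_prime e4 fun e => n1 (eq_of_mul_eq_one' d2 e ▸ Commute.refl _)]
      exact (Nat.coprime_primes Nat.prime_three h.pr).2 (by have := h.five; omega)
    have e6 : Commute (c * d * d) t :=
      Commute.mul_left (mem_centralizer_singleton_iff.1 e5) dt
    rw [mul_assoc, d2, mul_one, ht] at e6
    exact n1 (h.comm_left hc hd hb db hne e6)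
  have e0 : b * cj s d = d * cj s b := by
    have : cj s b = cj s d * t := by rw [← yy, cancel2 (h.sq _ hy)]
    rw [this, ht, ← mul_assoc d, ← yd.eq, mul_assoc _ d, cancel2 d2, yb.eq]
  have a1 : ¬ Commute a (cj s d) := fun k => by
    have e : d * cj s d = b * cj s b := by
      rw [← cancel2 (h.sq b hb) (d * cj s d), ← mul_assoc b d, ← db.eq, mul_assoc d, e0,
        cancel2 d2]
    refine n (h.comm_left ha hb hy' ?_ (fun e' => y1 ?_) (e ▸ ad.mul_right k))
    · have : cj s b = cj s d * t := by rw [← yy, cancel2 (h.sq _ hy)]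
      rw [this, ht]
      exact yb.symm.mul_right (db.symm.mul_right (Commute.refl b))
    · rw [← e', h.sq b hb] at e
      exact (eq_of_mul_eq_one' (h.sq _ hy) e).symm
  have k2 := h.comm_cj hb hy ha yb.symm y2.symm n a1
  have a2 : ¬ Commute a (cj s b) := fun k =>
    n (h.comm_left ha hb hy yb.symm y2.symm (e0 ▸ ad.mul_right k))
  rw [e0, ← cj_cj, commute_cj_right, h.rt.inv_eq hd, cj_of_comm ad.symm] at k2
  exact (h.od ha hy' a2).not_comm_cj (h.sq a ha) (h.sq _ hy') k2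

end Cfsg.Lib.PTr
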