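import Cfsg.Agent.Lib.PTr.A
import Cfsg.Agent.Lib.ZStar.Main
import Cfsg.Agent.S0205
import Cfsg.Prelude.Def_SporadicB

/-!
A generating class of involutions with a rank three action consists of 3-transpositions.
-/

set_option autoImplicit false

namespace Cfsg.Lib.PTr

open Subgroup Cfsg.Lib.Inv Cfsg.Lib.RI

variable {G : Type*} [Group G] {D : Set G} {p : ℕ} {a b c d e f g s t u v x y : G}

/-- No class of `p`-transpositions, `p ≥ 5`, with all commuting pairs conjugate. -/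
theorem PT.elim [Finite G] (h : PT p D) (hO : pCore 2 G = ⊥) (hgen : closure D = ⊤) (hx : x ∈ D)
    (hu : u ∈ D) (xu : Commute x u) (hne : x ≠ u) (tr : ∀ y ∈ D, ∃ g, cj g x = y)
    (tr' : ∃ g, cj g u = x)
    (orb : ∀ w ∈ D, Commute x w → w ≠ x → ∃ g, Commute g x ∧ cj g u = w) : False := by
  have ex : ∃ f ∈ D, ¬ Commute f x ∧ ¬ Commute f u := by
    by_contra! n
    have st : ∀ d ∈ D, ∀ c, (c ∈ D ∧ Commute x c ∧ c ≠ x) →
        (cj d c ∈ D ∧ Commute x (cj d c) ∧ cj d c ≠ x) := fun d hd c ⟨h1, h2, h3⟩ => by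
      by_cases k : Commute d x
      · refine ⟨h.conj c h1 d, RI.comm_cj k.symm h2, fun e => h3 ?_⟩
        rw [← cj_of_comm k, cj_inj] at e
        exact e
      · obtain ⟨g, g1, rfl⟩ := orb c h1 h2 h3
        have := n _ (h.conj d hd g⁻¹) (fun e => k (by
          rw [commute_cj_left, inv_inv, cj_of_comm g1] at e; exact e))
        rw [commute_cj_left, inv_inv] at this
        rw [cj_of_comm this]
        exact ⟨h1, h2, h3⟩
    have all : ∀ g ∈ closure D, ∀ c, (c ∈ D ∧ Commute x c ∧ c ≠ x) →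
        (cj g c ∈ D ∧ Commute x (cj g c) ∧ cj g c ≠ x) := fun g hg => by
      induction hg using closure_induction'' with
      | one => intro c hc; rwa [one_cj]
      | mem d hd => exact st d hd
      | inv_mem d hd => rw [h.rt.inv_eq hd]; exact st d hd
      | mul g k _ _ h1 h2 => intro c hc; rw [← cj_cj]; exact h1 _ (h2 c hc)
    obtain ⟨g, hg⟩ := tr'
    exact (all g (hgen ▸ mem_top g) u ⟨hu, xu, hne.symm⟩).2.2 hg
  obtain ⟨f, hf, f1, f2⟩ := ex
  have trans : ∀ a ∈ D, ∀ d ∈ D, ∀ b ∈ D, Commute a d → Commute d b → Commute a b := by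
    intro a ha d hd b hb h1 h2
    rcases eq_or_ne d b with rfl | n
    · exact h1
    obtain ⟨k, rfl⟩ := tr d hd
    obtain ⟨g, g1, g2⟩ := orb _ (h.conj b hb k⁻¹) (commute_cj_left.1 h2)
      (fun e => n (by rw [← e, cj_cj_inv]))
    refine h.same hd hb (h.conj f hf (k * g)) ha h2 n ?_ ?_ h1
    · rwa [← cj_of_comm g1, cj_cj, commute_cj]
    · rwa [← cj_cj_inv k b, ← g2, cj_cj, commute_cj]
  have t2 := mul_sq_of_comm (h.sq x hx) (h.sq u hu) xu
  have : x * u ∈ pCore 2 G := PLocal.mem_pCore_of_forall_isPGroup_closure_conj fun g => by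
    have s2 : cj g (x * u) * cj g (x * u) = 1 := cj_mul_self t2 g
    have fix : ∀ e ∈ D, Commute e (cj (cj g (x * u)) e) := fun e he => by
      have ha := h.conj x hx g
      have hc := h.conj u hu g
      have ac := Commute_cj g xu
      rw [cj_mul]
      by_cases k : Commute e (cj g x)
      · rw [cj_of_comm (k.mul_right (trans _ he _ ha _ hc k ac)).symm]
      · exact h.comm_cj ha hc he ac (fun e => hne (cj_inj.1 e)) k
          fun k' => k (trans _ he _ hc _ ha k' ac.symm)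
    have ha := h.conj x hx (cj g (x * u))
    have hc := h.conj u hu (cj g (x * u))
    have c1 := fix x hx
    have c2 := fix u hu
    have c : Commute (x * u) (cj (cj g (x * u)) (x * u)) := by
      rw [cj_mul (cj g (x * u))]
      exact (c1.mul_right (trans _ hx _ hu _ hc xu c2)).mul_left
        ((trans _ hu _ hx _ ha xu.symm c1).mul_right c2)
    refine isPGroup_pair t2 s2 ⟨2, ?_⟩
    rw [show 2 ^ 2 = 2 * 2 from rfl, pow_mul, ← cj_def g, sq_eq_mul_cj s2, _root_.sq]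
    exact mul_sq_of_comm t2 (cj_mul_self t2 _) c
  rw [hO, mem_bot] at this
  exact hne (eq_of_mul_eq_one' (h.sq u hu) this)

theorem main [Finite G] (hsol : ∀ N : Subgroup G, N.Normal → Group.IsSolvable ↥N → N = ⊥)
    (hinv : ∀ d ∈ D, orderOf d = 2) (hconj : ∃ d ∈ D, D = conjugatesOf d)
    (hgen : Subgroup.closure D = ⊤)
    (hrank : ∀ x ∈ D, ∃ y ∈ D, ∃ z ∈ D, {w : G | ∃ g : G, Commute g x ∧ g * y * g⁻¹ = w} ≠
      {w : G | ∃ g : G, Commute g x ∧ g * x * g⁻¹ = w} ∧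
      {w : G | ∃ g : G, Commute g x ∧ g * z * g⁻¹ = w} ≠
      {w : G | ∃ g : G, Commute g x ∧ g * x * g⁻¹ = w} ∧
      {w : G | ∃ g : G, Commute g x ∧ g * y * g⁻¹ = w} ≠
      {w : G | ∃ g : G, Commute g x ∧ g * z * g⁻¹ = w} ∧
      D = {w : G | ∃ g : G, Commute g x ∧ g * x * g⁻¹ = w} ∪
      {w : G | ∃ g : G, Commute g x ∧ g * y * g⁻¹ = w} ∪
      {w : G | ∃ g : G, Commute g x ∧ g * z * g⁻¹ = w}) : Cfsg.IsThreeTranspositionClass D := by
  refine ⟨⟨hinv, ?_⟩, hconj, hgen⟩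
  obtain ⟨x, hx, hD⟩ := hconj
  have sq : ∀ d ∈ D, d * d = 1 := fun d hd => mul_self_of_orderOf (hinv d hd)
  have tr : ∀ y ∈ D, ∃ g, cj g x = y := fun y hy => isConj_iff.1 (hD ▸ hy : y ∈ conjugatesOf x)
  have conj : ∀ d ∈ D, ∀ g, cj g d ∈ D := fun d hd g => by
    obtain ⟨k, rfl⟩ := tr d hd
    rw [cj_cj, hD]
    exact isConj_iff.2 ⟨_, rfl⟩
  have x1 := ne_one_of_orderOf (hinv x hx)
  have hO : pCore 2 G = ⊥ := hsol _ inferInstance (by
    haveI := (Core.pCore_isPGroup 2 G).isNilpotent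
    infer_instance)
  obtain ⟨u, hu, xu, hne⟩ : ∃ u ∈ D, Commute x u ∧ x ≠ u := by
    by_contra! n
    have h1 : oddCore G = ⊥ := hsol _ inferInstance (Cfsg.Agent.S0205.result
      (Nat.not_even_iff_odd.1 fun e => Core.not_dvd_card_pPrimeCore 2 G (even_iff_two_dvd.1 e)))
    have h2 : center G = ⊥ := hsol _ inferInstance
      (Group.isSolvable_of_comm fun a b => Subtype.ext (mem_center_iff.1 b.2 a))
    have : x ∈ center G := mem_center_iff.2 fun g => by
      have := ZStar.zstar ⟨hinv x hx, fun g k => (n _ (conj x hx g) k).symm⟩ g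
      rw [h1, mem_bot, mul_inv_eq_one, mul_inv_eq_iff_eq_mul] at this
      exact this.symm
    rw [h2, mem_bot] at this
    exact x1 this
  obtain ⟨v, hv, xv⟩ : ∃ v ∈ D, ¬ Two (x * v) := by
    by_contra! n
    have : x ∈ pCore 2 G := PLocal.mem_pCore_of_forall_isPGroup_closure_conj fun g =>
      isPGroup_pair (sq x hx) (sq _ (conj x hx g)) (n _ (conj x hx g))
    rw [hO, mem_bot] at this
    exact x1 this
  have uv : ∀ g k y, Commute g x → Commute k x → cj g y = u → cj k y = v → False := by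
    rintro g k y h1 h2 rfl rfl
    rw [← cj_of_comm h1, commute_cj] at xu
    have := (two_of_sq (mul_sq_of_comm (sq x hx) (by
      have := cj_mul_self (sq _ hu) g⁻¹; rwa [cj_inv_cj] at this) xu)).conj k
    rw [cj_mul, cj_of_comm h2] at this
    exact xv this
  have orb : ∀ w ∈ D, w = x ∨ (∃ g, Commute g x ∧ cj g u = w) ∨ ∃ g, Commute g x ∧ cj g v = w := by
    obtain ⟨y, -, z, -, -, -, -, e⟩ := hrank x hx
    have m : ∀ w ∈ D, w = x ∨ (∃ g, Commute g x ∧ cj g y = w) ∨ ∃ g, Commute g x ∧ cj g z = w :=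
      fun w hw => by
        rw [e] at hw
        rcases hw with (⟨g, h1, h2⟩ | h1) | h1
        · exact .inl (h2.symm.trans (cj_of_comm h1))
        · exact .inr (.inl h1)
        · exact .inr (.inr h1)
    have mv : ∀ {y u w g k}, Commute g x → Commute k x → cj g y = u → cj k y = w →
        ∃ g, Commute g x ∧ cj g u = w := by
      rintro y _ _ g k h1 h2 rfl rfl
      exact ⟨k * g⁻¹, h2.mul_left h1.inv_left, by rw [← cj_cj, cj_inv_cj]⟩
    intro w hw
    rcases m u hu with rfl | ⟨g, g1, g2⟩ | ⟨g, g1, g2⟩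
    · exact absurd rfl hne
    · rcases m v hv with rfl | ⟨k, k1, k2⟩ | ⟨k, k1, k2⟩
      · exact absurd (two_of_sq (by rw [sq _ hx, mul_one])) xv
      · exact (uv g k y g1 k1 g2 k2).elim
      · exact (m w hw).imp_right (Or.imp (fun ⟨l, l1, l2⟩ => mv g1 l1 g2 l2)
          fun ⟨l, l1, l2⟩ => mv k1 l1 k2 l2)
    · rcases m v hv with rfl | ⟨k, k1, k2⟩ | ⟨k, k1, k2⟩
      · exact absurd (two_of_sq (by rw [sq _ hx, mul_one])) xv
      · exact (m w hw).imp_right (fun h => h.symm.imp (fun ⟨l, l1, l2⟩ => mv g1 l1 g2 l2)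
          fun ⟨l, l1, l2⟩ => mv k1 l1 k2 l2)
      · exact (uv g k z g1 k1 g2 k2).elim
  have cu : ∀ g, Commute g x → Commute x (cj g u) := fun g k => by
    rw [← cj_of_comm k]; exact Commute_cj g xu
  obtain ⟨p, hp, p2, hv'⟩ : ∃ p : ℕ, p.Prime ∧ p ≠ 2 ∧ (x * v) ^ p = 1 := by
    obtain ⟨p, hp, pd, p2⟩ : ∃ p : ℕ, p.Prime ∧ p ∣ orderOf (x * v) ∧ p ≠ 2 := by
      by_contra! n
      have := Nat.eq_prime_pow_of_unique_prime_dvd (orderOf_pos (x * v)).ne'
        (fun {q} h1 h2 => n q h1 h2)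
      exact xv ⟨_, this ▸ pow_orderOf_eq_one _⟩
    obtain ⟨m, hm⟩ := pd
    have ho := hp.odd_of_ne_two p2
    have r1 : orderOf ((x * v) ^ m) = p := by
      rw [orderOf_pow' _ (by rintro rfl; exact (orderOf_pos _).ne' hm), hm, Nat.gcd_mul_left_left,
        Nat.mul_div_cancel _ (Nat.pos_of_ne_zero (by rintro rfl; exact (orderOf_pos _).ne' hm))]
    obtain ⟨r, hr⟩ : ∃ r, r = (x * v) ^ m := ⟨_, rfl⟩
    have xi : x⁻¹ = x := inv_eq_of_mul_eq_one_left (sq x hx)
    have i : cj x r = r⁻¹ := by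
      rw [hr, cj_pow, ← inv_pow, mul_inv_rev, xi, inv_eq_of_mul_eq_one_left (sq v hv),
        cj_inv_inv (sq x hx), cancel2 (sq x hx)]
    rw [← hr] at r1
    have e : x * cj r x = (r ^ 2)⁻¹ := by
      rw [cj_inv_inv (sq x hx)] at i
      rw [cj_def, ← mul_assoc, ← mul_assoc, i, _root_.sq, mul_inv_rev]
    have o : orderOf (x * cj r x) = p := by
      rw [e, orderOf_inv, ← r1]
      exact Nat.Coprime.orderOf_pow (r1 ▸ Nat.coprime_two_right.2 ho)
    have nt : ¬ Commute x (cj r x) := fun k => by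
      have := (two_of_sq (mul_sq_of_comm (sq x hx) (sq _ (conj x hx r)) k)).eq_one (o ▸ ho)
      rw [this, orderOf_one] at o
      exact hp.one_lt.ne o
    refine ⟨p, hp, p2, ?_⟩
    rcases orb _ (conj x hx r) with k | ⟨g, g1, g2⟩ | ⟨g, g1, g2⟩
    · exact absurd (k.symm ▸ Commute.refl x) nt
    · exact absurd (g2 ▸ cu g g1) nt
    · rw [← g2, ← cj_of_comm g1, ← cj_mul, orderOf_cj] at o
      exact o ▸ pow_orderOf_eq_one _
  have pair : ∀ a ∈ D, ∀ b ∈ D, Commute a b ∨ (a * b) ^ p = 1 := fun a ha b hb => by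
    obtain ⟨k, rfl⟩ := tr a ha
    rcases orb _ (conj b hb k⁻¹) with e | ⟨g, g1, g2⟩ | ⟨g, g1, g2⟩
    · exact .inl (commute_cj_left.2 (e.symm ▸ Commute.refl x))
    · exact .inl (commute_cj_left.2 (g2 ▸ cu g g1))
    · right
      rw [← cj_cj_inv k b, ← g2, ← cj_mul, ← cj_pow, cj_eq_one, ← cj_of_comm g1, ← cj_mul,
        ← cj_pow, hv', cj_one]
  rcases eq_or_ne p 3 with rfl | p3
  · exact fun a ha b hb => (pair a ha b hb).imp_left fun k => by
      rw [_root_.sq]; exact mul_sq_of_comm (sq a ha) (sq b hb) k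
  have h : PT p D := ⟨hp, hp.five_le_of_ne_two_of_ne_three p2 p3, sq,
    fun d hd => ne_one_of_orderOf (hinv d hd), conj, pair⟩
  refine (h.elim hO hgen hx hu xu hne tr ?_ fun w hw c n => ?_).elim
  · obtain ⟨g, hg⟩ := tr u hu
    exact ⟨g⁻¹, by rw [← hg, cj_inv_cj]⟩
  · rcases orb w hw with e | e | ⟨g, g1, g2⟩
    · exact absurd e n
    · exact e
    · rw [← g2, ← cj_of_comm g1, commute_cj] at c
      exact absurd (two_of_sq (mul_sq_of_comm (sq x hx) (sq v hv) c)) xv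

end Cfsg.Lib.PTr
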